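import Cfsg.Agent.H162.KS.Desc
import Cfsg.Agent.Blocks.GroupAlg
import Cfsg.Agent.Blocks.Local
import Cfsg.Agent.S0913

/-!
# The block idempotent over a field containing the character values (S4577, parity lemma)

* `exists_eB` : the block idempotent as an element of `MonoidAlgebra K G`;
* `exists_eH` : the idempotent of a linear character of a subgroup of odd order (of order prime to `p`);
* `exists_e` : the product.
-/

set_option autoImplicit false

namespace Cfsg.Agent.H421.KS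

open Cfsg Cfsg.Agent.H162.KS Cfsg.Agent.Blocks.GroupAlg Cfsg.Agent.Blocks.Local Cfsg.Agent.Characters.Core
open scoped ComplexConjugate

variable {K : Type*} [Field K] [Algebra K ℂ] {G : Type*} [Group G]

/-- extension of the scalars to `ℂ` -/
noncomputable def toC (K : Type*) [Field K] [Algebra K ℂ] (G : Type*) [Group G] :
    MonoidAlgebra K G →+* MonoidAlgebra ℂ G := MonoidAlgebra.mapRingHom G (algebraMap K ℂ)

theorem coeff_toC (x : MonoidAlgebra K G) (g : G) : (toC K G x).coeff g = algebraMap K ℂ (x.coeff g) := rfl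

theorem toC_injective : Function.Injective (toC K G) :=
  MonoidAlgebra.map_injective _ (algebraMap K ℂ).injective

theorem toC_single (g : G) (c : K) : toC K G (MonoidAlgebra.single g c) = MonoidAlgebra.single g (algebraMap K ℂ c) :=
  MonoidAlgebra.map_single _ _ _

variable [Fintype G]

theorem lin_toC (χ : G → ℂ) (x : MonoidAlgebra K G) : lin χ (toC K G x) = ev χ x := by
  rw [lin_apply, ev_apply]
  rfl

/-- the block idempotent over `K` -/
theorem exists_eB (B : Set (IrrCharacter G)) (hval : ∀ χ ∈ B, ∀ g, ∃ k : K, algebraMap K ℂ k = (χ : G → ℂ) g) :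
    ∃ e : MonoidAlgebra K G, e * e = e ∧ (∀ x, e * x = x * e) ∧
      (∀ g, algebraMap K ℂ (e.coeff g) = blockCoeff B g) ∧
      (∀ χ : IrrCharacter G, ∀ x, χ ∈ B → ev (χ : G → ℂ) (e * x) = ev (χ : G → ℂ) x) ∧
      ∀ χ : IrrCharacter G, ∀ x, χ ∉ B → ev (χ : G → ℂ) (e * x) = 0 := by
  classical
  have := finite_irr (G := G)
  have := Fintype.ofFinite (IrrCharacter G)
  have hK : ∀ g, ∃ k : K, algebraMap K ℂ k = blockCoeff B g := by
    intro g
    have h1 : ∀ z : ℂ, (∃ k : K, algebraMap K ℂ k = z) ↔ z ∈ (algebraMap K ℂ).range := fun z => Iff.rfl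
    rw [h1, blockCoeff_eq_sum]
    refine Subring.mul_mem _ ⟨((Nat.card G : K))⁻¹, by rw [map_inv₀, map_natCast]⟩ (Subring.sum_mem _ fun χ _ => ?_)
    split_ifs with hχ
    · rw [← isCharacter_apply_inv (isIrr_isCharacter χ.2)]
      exact Subring.mul_mem _ (hval χ hχ 1) (hval χ hχ g⁻¹)
    · exact Subring.zero_mem _
  choose f hf using hK
  let e : MonoidAlgebra K G := .ofCoeff (Finsupp.equivFunOnFinite.symm f)
  have he : toC K G e = idem B := by
    ext g
    exact hf g
  refine ⟨e, toC_injective ?_, fun x => toC_injective ?_, hf, fun χ x hχ => ?_, fun χ x hχ => ?_⟩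
  · rw [map_mul, he, idem_mul_idem]
  · rw [map_mul, map_mul, he]
    exact ((Subalgebra.mem_center_iff.1 (idem_mem_center B)) _).symm
  · rw [← lin_toC, map_mul, he, lin_mul_of_mem_center χ.2 (idem_mem_center B), omega_idem, if_pos hχ, one_mul, lin_toC]
  · rw [← lin_toC, map_mul, he, lin_mul_of_mem_center χ.2 (idem_mem_center B), omega_idem, if_neg hχ, zero_mul]

/-- the idempotent of a linear character of a subgroup of order prime to `p` -/
theorem exists_eH {p : ℕ} {M : Ideal AlgInt} (hM : IsPModular p M) (H : Subgroup G) (hH : ¬ p ∣ Nat.card H)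
    (lam : H →* ℂˣ) (hroot : ∀ z : ℂ, z ^ Nat.card H = 1 → ∃ k : K, algebraMap K ℂ k = z) :
    ∃ e : MonoidAlgebra K G, e * e = e ∧ (∀ g, MemLocalRing M (algebraMap K ℂ (e.coeff g))) ∧
      ∀ χ : G → ℂ, ev χ e * (Nat.card H : ℂ) = ∑ᶠ h : H, χ h * ((lam h)⁻¹ : ℂˣ) := by
  classical
  have := Fintype.ofFinite H
  have hMp := isPrime_of_isPModular hM
  have hn : (Nat.card H : ℂ) ≠ 0 := Nat.cast_ne_zero.2 Nat.card_pos.ne'
  have hpow : ∀ h : H, (((lam h)⁻¹ : ℂˣ) : ℂ) ^ Nat.card H = 1 := by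
    intro h
    rw [← Units.val_pow_eq_pow_val, inv_pow, ← map_pow, pow_card_eq_one', map_one, inv_one, Units.val_one]
  choose k hk using fun h : H => hroot _ (hpow h)
  let e : MonoidAlgebra K G := ∑ h : H, MonoidAlgebra.single (h : G) ((Nat.card H : K)⁻¹ * k h)
  have he : toC K G e = ∑ h : H, MonoidAlgebra.single (h : G) ((Nat.card H : ℂ)⁻¹ * (((lam h)⁻¹ : ℂˣ) : ℂ)) := by
    rw [map_sum]
    refine Finset.sum_congr rfl fun h _ => ?_
    rw [toC_single, map_mul, map_inv₀, map_natCast, hk]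
  refine ⟨e, toC_injective ?_, fun g => ?_, fun χ => ?_⟩
  · rw [map_mul, he, Finset.sum_mul]
    have h1 : ∀ x : H, MonoidAlgebra.single (x : G) ((Nat.card H : ℂ)⁻¹ * (((lam x)⁻¹ : ℂˣ) : ℂ)) *
        ∑ h : H, MonoidAlgebra.single (h : G) ((Nat.card H : ℂ)⁻¹ * (((lam h)⁻¹ : ℂˣ) : ℂ)) =
        (Nat.card H : ℂ)⁻¹ • ∑ h : H, MonoidAlgebra.single (h : G) ((Nat.card H : ℂ)⁻¹ * (((lam h)⁻¹ : ℂˣ) : ℂ)) := by
      intro x
      rw [Finset.mul_sum, Finset.smul_sum]
      refine Fintype.sum_equiv (Equiv.mulLeft x) _ _ fun h => ?_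
      rw [MonoidAlgebra.single_mul_single, MonoidAlgebra.smul_single, Equiv.coe_mulLeft, Subgroup.coe_mul, map_mul,
        mul_inv_rev, Units.val_mul, smul_eq_mul]
      congr 1
      ring
    rw [Finset.sum_congr rfl fun x _ => h1 x, Finset.sum_const, Finset.card_univ, ← Nat.card_eq_fintype_card,
      ← Nat.cast_smul_eq_nsmul ℂ, smul_smul, mul_inv_cancel₀ hn, one_smul]
  · rw [← coeff_toC, he, MonoidAlgebra.coeff_sum, Finsupp.finsetSum_apply]
    refine memLocalRing_sum fun h _ => ?_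
    rw [MonoidAlgebra.coeff_single, Finsupp.single_apply]
    split_ifs
    · refine memLocalRing_mul (memLocalRing_inv_natCast hM hH) (memLocalRing_of_isIntegral ?_)
      refine IsIntegral.of_pow Nat.card_pos (n := Nat.card H) ?_
      rw [hpow]
      exact isIntegral_one
    · exact memLocalRing_zero
  · rw [← lin_toC, he, map_sum, Finset.sum_mul, finsum_eq_sum_of_fintype]
    refine Finset.sum_congr rfl fun h _ => ?_
    rw [lin_single]
    generalize (((lam h)⁻¹ : ℂˣ) : ℂ) = w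
    field_simp

/-- products of elements with local coefficients -/
theorem local_mul {M : Ideal AlgInt} [M.IsPrime] {x y : MonoidAlgebra K G}
    (hx : ∀ g, MemLocalRing M (algebraMap K ℂ (x.coeff g))) (hy : ∀ g, MemLocalRing M (algebraMap K ℂ (y.coeff g)))
    (g : G) : MemLocalRing M (algebraMap K ℂ ((x * y).coeff g)) := by
  classical
  have h1 : ∀ z : MonoidAlgebra K G, z = ∑ h : G, MonoidAlgebra.single h (z.coeff h) := by
    intro z
    ext g
    rw [MonoidAlgebra.coeff_sum, Finsupp.finsetSum_apply, Finset.sum_eq_single g]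
    · rw [MonoidAlgebra.coeff_single, Finsupp.single_eq_same]
    · intro h _ hne
      rw [MonoidAlgebra.coeff_single, Finsupp.single_eq_of_ne hne.symm]
    · exact fun h => absurd (Finset.mem_univ g) h
  rw [h1 x, Finset.sum_mul, MonoidAlgebra.coeff_sum, Finsupp.finsetSum_apply, map_sum]
  refine memLocalRing_sum fun h _ => ?_
  rw [MonoidAlgebra.coeff_single_mul_apply, map_mul]
  exact memLocalRing_mul (hx h) (hy _)

/-- **the idempotent of the parity lemma** -/
theorem exists_e {p : ℕ} [Fact p.Prime] {M : Ideal AlgInt} (hM : IsPModular p M) {B : Set (IrrCharacter G)}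
    (hB : IsPBlock M B) (hval : ∀ χ ∈ B, ∀ g, ∃ k : K, algebraMap K ℂ k = (χ : G → ℂ) g)
    (H : Subgroup G) (hH : ¬ p ∣ Nat.card H) (lam : H →* ℂˣ)
    (hroot : ∀ z : ℂ, z ^ Nat.card H = 1 → ∃ k : K, algebraMap K ℂ k = z) (m : IrrCharacter G → ℕ)
    (hm : ∀ χ : IrrCharacter G, (m χ : ℂ) * (Nat.card H : ℂ) = ∑ᶠ h : H, (χ : G → ℂ) (h : G) * ((lam h)⁻¹ : ℂˣ)) :
    ∃ e : MonoidAlgebra K G, e * e = e ∧ (∀ g, MemLocalRing M (algebraMap K ℂ (e.coeff g))) ∧
      (∀ χ ∈ B, ev (χ : G → ℂ) e = m χ) ∧ ∀ χ : IrrCharacter G, χ ∉ B → ev (χ : G → ℂ) e = 0 := by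
  have := isPrime_of_isPModular hM
  obtain ⟨e₁, h1, h2, h3, h4, h5⟩ := exists_eB B hval
  obtain ⟨e₂, k1, k2, k3⟩ := exists_eH hM H hH lam hroot
  have hn : (Nat.card H : ℂ) ≠ 0 := Nat.cast_ne_zero.2 Nat.card_pos.ne'
  refine ⟨e₁ * e₂, ?_, fun g => local_mul (fun g => ?_) k2 g, fun χ hχ => ?_, fun χ hχ => h5 χ e₂ hχ⟩
  · rw [mul_assoc, ← mul_assoc e₂, ← h2 e₂, mul_assoc, k1, ← mul_assoc, h1]
  · rw [h3]
    exact S0913.result p M hM B hB g
  · rw [h4 χ e₂ hχ]
    apply mul_right_cancel₀ hn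
    rw [k3, hm]

end Cfsg.Agent.H421.KS
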